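import Cfsg.Agent.PQ.Th.Defs

/-!
# PQ, box REL: gradings, adjoints, locally finite sums (helper4)
-/

set_option autoImplicit false
set_option linter.unusedSectionVars false

namespace Cfsg.Agent.PQ.Rl4

open Module Cfsg.Agent.PQ.Th
open scoped ComplexConjugate

variable {V : Type} [AddCommGroup V] [Module ℂ V] {H : HS V}

/-! ### gradings -/

theorem b_mem {P : H.ι → Prop} {i : H.ι} (h : P i) : H.b i ∈ H.sup P := fun j hj => by
  rw [Basis.repr_self, Finsupp.single_eq_of_ne]
  rintro rfl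
  exact hj h

theorem sup_le {P : H.ι → Prop} {S : Submodule ℂ V} (h : ∀ i, P i → H.b i ∈ S) : H.sup P ≤ S := fun u hu => by
  refine Submodule.span_le.2 ?_ (H.b.mem_span_repr_support u)
  rintro _ ⟨i, hi, rfl⟩
  refine h i (by_contra fun hn => ?_)
  exact Finsupp.mem_support_iff.1 hi (hu i hn)

theorem sup_mono {P Q : H.ι → Prop} (h : ∀ i, P i → Q i) : H.sup P ≤ H.sup Q := sup_le fun i hi => b_mem (h i hi)

theorem map_sup {P : H.ι → Prop} {S : Submodule ℂ V} {A : End ℂ V} (h : ∀ i, P i → A (H.b i) ∈ S) {u : V}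
    (hu : u ∈ H.sup P) : A u ∈ S := sup_le (S := S.comap A) h hu

theorem eq_on {P : H.ι → Prop} {A B : End ℂ V} (h : ∀ i, P i → A (H.b i) = B (H.b i)) {u : V}
    (hu : u ∈ H.sup P) : A u = B u := sup_le (S := LinearMap.eqLocus A B) h hu

theorem eq_zero_of {P Q : H.ι → Prop} (h : ∀ i, P i → ¬ Q i) {u : V} (h1 : u ∈ H.sup P) (h2 : u ∈ H.sup Q) : u = 0 :=
  H.b.repr.injective (Finsupp.ext fun i => by
    rw [map_zero, Finsupp.zero_apply]
    by_cases hi : P i
    · exact h2 i (h i hi)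
    · exact h1 i hi)

theorem mk'_b (f : H.ι → V) (i : H.ι) : H.mk' f (H.b i) = f i := H.b.constr_basis ℂ f i

variable (H) in
/-- ranks below `n` -/
def Fl (n : ℤ) : Submodule ℂ V := H.sup fun i => (H.rk i : ℤ) < n

theorem Fl_mono {m n : ℤ} (h : m ≤ n) : Fl H m ≤ Fl H n := sup_mono fun _ hi => hi.trans_le h

theorem Fl_zero {n : ℤ} (h : n ≤ 0) {u : V} (hu : u ∈ Fl H n) : u = 0 :=
  eq_zero_of (Q := fun i => (H.rk i : ℤ) < n) (fun i hi => by omega) hu hu

theorem b_Fl (i : H.ι) : H.b i ∈ Fl H (H.rk i + 1) := b_mem (by omega)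

theorem exists_Fl (u : V) : ∃ n : ℕ, u ∈ Fl H n := by
  refine ⟨(H.b.repr u).support.sup H.rk + 1, fun i hi => by_contra fun hn => hi ?_⟩
  have := Finset.le_sup (f := H.rk) (Finsupp.mem_support_iff.2 hn)
  omega

variable (H) in
/-- degree at most `d` -/
def Dg (A : End ℂ V) (d : ℤ) : Prop := ∀ n, ∀ u ∈ Fl H n, A u ∈ Fl H (n + d)

variable (H) in
/-- shift of the defect -/
def Df (A : End ℂ V) (s : ZMod 4) : Prop := ∀ D, ∀ u ∈ H.cmp D, A u ∈ H.cmp (D + s)

theorem dg_of {A : End ℂ V} {d : ℤ} (h : ∀ i, A (H.b i) ∈ H.gr (H.rk i + d)) : Dg H A d := fun _ _ hu =>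
  map_sup (fun i hi => sup_mono (fun j hj => by omega) (h i)) hu

theorem dg_of_hom {A : End ℂ V} {d : ℤ} {s : ZMod 4} (h : H.Hom A d s) : Dg H A d := dg_of fun i => (h i).1

theorem df_of_hom {A : End ℂ V} {d : ℤ} {s : ZMod 4} (h : H.Hom A d s) : Df H A s := fun _ _ hu =>
  map_sup (fun i hi => by rw [← hi]; exact (h i).2) hu

variable {A B A' B' : End ℂ V} {d e : ℤ} {s t : ZMod 4}

theorem Dg.mul (h : Dg H A d) (h' : Dg H B e) : Dg H (A * B) (d + e) := fun n u hu => by
  rw [show n + (d + e) = n + e + d by ring]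
  exact h _ _ (h' n u hu)

theorem Dg.mono (h : Dg H A d) (hd : d ≤ e) : Dg H A e := fun n u hu => Fl_mono (by omega) (h n u hu)

theorem dg_one : Dg H 1 0 := fun n u hu => by rwa [add_zero]

theorem dg_zero : Dg H 0 d := fun _ _ _ => zero_mem _

theorem Dg.smul (h : Dg H A d) (c : ℂ) : Dg H (c • A) d := fun n u hu => Submodule.smul_mem _ c (h n u hu)

theorem Dg.neg (h : Dg H A d) : Dg H (-A) d := fun n u hu => neg_mem (h n u hu)

theorem Dg.sum {κ : Type} (S : Finset κ) {f : κ → End ℂ V} (h : ∀ i ∈ S, Dg H (f i) d) : Dg H (∑ i ∈ S, f i) d :=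
  fun n u hu => by
    rw [LinearMap.sum_apply]
    exact sum_mem fun i hi => h i hi n u hu

theorem Dg.zero (h : Dg H A d) {n : ℤ} {u : V} (hu : u ∈ Fl H n) (hn : n + d ≤ 0) : A u = 0 := Fl_zero hn (h n u hu)

theorem Df.mul (h : Df H A s) (h' : Df H B t) : Df H (A * B) (s + t) := fun n u hu => by
  rw [show n + (s + t) = n + t + s by ring]
  exact h _ _ (h' n u hu)

theorem Df.cast (h : Df H A s) (e : s = t) : Df H A t := e ▸ h

theorem df_one : Df H 1 0 := fun n u hu => by rwa [add_zero]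

theorem Df.smul (h : Df H A s) (c : ℂ) : Df H (c • A) s := fun n u hu => Submodule.smul_mem _ c (h n u hu)

theorem Df.neg (h : Df H A s) : Df H (-A) s := fun n u hu => neg_mem (h n u hu)

theorem Df.sub (h : Df H A s) (h' : Df H B s) : Df H (A - B) s := fun n u hu => sub_mem (h n u hu) (h' n u hu)

theorem Df.sum {κ : Type} (S : Finset κ) {f : κ → End ℂ V} (h : ∀ i ∈ S, Df H (f i) s) : Df H (∑ i ∈ S, f i) s :=
  fun n u hu => by
    rw [LinearMap.sum_apply]
    exact sum_mem fun i hi => h i hi n u hu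

theorem Df.split (h : Df H A s) (h' : Df H B t) (hst : s ≠ t) (e : A + B = 0) : A = 0 ∧ B = 0 := by
  have h1 : A = 0 := H.b.ext fun i => by
    have h2 := h'.neg _ _ (b_mem (P := fun j => H.df j = H.df i) rfl)
    rw [← eq_neg_of_add_eq_zero_left e] at h2
    exact eq_zero_of (fun j hj hj' => hst (add_left_cancel (hj.symm.trans hj'))) (h _ _ (b_mem rfl)) h2
  rw [h1, zero_add] at e
  exact ⟨h1, e⟩

/-! ### parity -/

open Classical in
theorem po_cmp {D : ZMod 4} {u : V} (hu : u ∈ H.cmp D) : H.po u = if Od D then u else 0 := by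
  split_ifs with h
  · exact eq_on (B := 1) (fun i hi => by rw [HS.po, mk'_b, hi, if_pos h]; rfl) hu
  · exact eq_on (B := 0) (fun i hi => by rw [HS.po, mk'_b, hi, if_neg h]; rfl) hu

open Classical in
theorem pe_cmp {D : ZMod 4} {u : V} (hu : u ∈ H.cmp D) : H.pe u = if Od D then 0 else u := by
  split_ifs with h
  · exact eq_on (B := 0) (fun i hi => by rw [HS.pe, mk'_b, hi, if_pos h]; rfl) hu
  · exact eq_on (B := 1) (fun i hi => by rw [HS.pe, mk'_b, hi, if_neg h]; rfl) hu

theorem b_cmp (i : H.ι) : H.b i ∈ H.cmp (H.df i) := b_mem rfl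

theorem od_even {s : ZMod 4} (hs : ¬ Od s) (D : ZMod 4) : Od (D + s) ↔ Od D := by
  revert s D
  unfold Od
  decide

theorem od_odd {s : ZMod 4} (hs : Od s) (D : ZMod 4) : Od (D + s) ↔ ¬ Od D := by
  revert s D
  unfold Od
  decide

theorem Df.po (h : Df H A s) (hs : ¬ Od s) : H.po * A = A * H.po := H.b.ext fun i => by
  rw [End.mul_apply, End.mul_apply, po_cmp (h _ _ (b_cmp i)), po_cmp (b_cmp i), od_even hs]
  split_ifs
  · rfl
  · rw [map_zero]

theorem Df.pe (h : Df H A s) (hs : ¬ Od s) : H.pe * A = A * H.pe := H.b.ext fun i => by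
  rw [End.mul_apply, End.mul_apply, pe_cmp (h _ _ (b_cmp i)), pe_cmp (b_cmp i), od_even hs]
  split_ifs
  · rw [map_zero]
  · rfl

theorem Df.J (h : Df H A s) (hs : ¬ Od s) : H.J * A = A * H.J := by
  rw [HS.J, sub_mul, mul_sub, h.po hs, h.pe hs]

theorem Df.J' (h : Df H A s) (hs : Od s) : H.J * A = -(A * H.J) := H.b.ext fun i => by
  rw [LinearMap.neg_apply, End.mul_apply, End.mul_apply, HS.J, LinearMap.sub_apply, LinearMap.sub_apply,
    po_cmp (h _ _ (b_cmp i)), pe_cmp (h _ _ (b_cmp i)), po_cmp (b_cmp i), pe_cmp (b_cmp i), od_odd hs]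
  by_cases h1 : Od (H.df i) <;> simp [h1]

theorem J_b (i : H.ι) : ∃ c : ℂ, c * c = 1 ∧ conj c = c ∧ H.J (H.b i) = c • H.b i := by
  rw [HS.J, LinearMap.sub_apply, po_cmp (b_cmp i), pe_cmp (b_cmp i)]
  split_ifs
  · exact ⟨1, by simp, by simp, by simp⟩
  · exact ⟨-1, by simp, by simp, by simp⟩

theorem J_J : H.J * H.J = 1 := H.b.ext fun i => by
  obtain ⟨c, h1, -, h2⟩ := J_b i
  rw [End.mul_apply, h2, map_smul, h2, smul_smul, h1, one_smul, End.one_apply]

theorem hom_J : H.Hom H.J 0 0 := fun i => by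
  obtain ⟨c, -, -, h2⟩ := J_b i
  rw [h2]
  exact Submodule.smul_mem _ _ ⟨b_mem (add_zero _).symm, b_mem (add_zero _).symm⟩

/-! ### adjoints -/

theorem ip_add (u u' v : V) : H.ip (u + u') v = H.ip u v + H.ip u' v := by
  unfold HS.ip
  rw [map_add, Finsupp.sum_add_index' (fun _ => zero_mul _) fun _ _ _ => add_mul _ _ _]

theorem ip_smul (c : ℂ) (u v : V) : H.ip (c • u) v = c * H.ip u v := by
  unfold HS.ip
  rw [map_smul, Finsupp.sum_smul_index' fun _ => zero_mul _, Finsupp.mul_sum]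
  simp only [smul_eq_mul, mul_assoc]

theorem ip_add' (u v v' : V) : H.ip u (v + v') = H.ip u v + H.ip u v' := by
  unfold HS.ip
  simp only [map_add, Finsupp.add_apply, mul_add, Finsupp.sum_add]

theorem ip_smul' (c : ℂ) (u v : V) : H.ip u (c • v) = conj c * H.ip u v := by
  unfold HS.ip
  simp only [map_smul, Finsupp.smul_apply, smul_eq_mul, map_mul, Finsupp.mul_sum, mul_left_comm]

theorem ip_b (i : H.ι) (v : V) : H.ip (H.b i) v = conj (H.b.repr v i) := by
  unfold HS.ip
  rw [Basis.repr_self, Finsupp.sum_single_index (zero_mul _), one_mul]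

theorem ip_b' (u : V) (i : H.ι) : H.ip u (H.b i) = H.b.repr u i := by
  classical
  unfold HS.ip
  rw [Basis.repr_self, Finsupp.sum_eq_single i (fun j _ hj => by rw [Finsupp.single_eq_of_ne hj, map_zero, mul_zero])
    (fun _ => zero_mul _), Finsupp.single_eq_same, map_one, mul_one]

theorem adj_of_b (h : ∀ i j, H.b.repr (A (H.b i)) j = conj (H.b.repr (B (H.b j)) i)) : H.Adj A B := by
  have h0 : ∀ v : V, H.ip 0 v = 0 := fun v => by simpa using ip_smul (H := H) 0 0 v
  have h0' : ∀ v : V, H.ip v 0 = 0 := fun v => by simpa using ip_smul' (H := H) 0 v 0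
  intro u v
  have hu := H.b.mem_span u
  have hv := H.b.mem_span v
  induction hu using Submodule.span_induction with
  | zero => rw [map_zero, h0, h0]
  | add x y _ _ hx hy => rw [map_add, ip_add, ip_add, hx, hy]
  | smul c x _ hx => rw [map_smul, ip_smul, ip_smul, hx]
  | mem x hx =>
    obtain ⟨i, rfl⟩ := hx
    induction hv using Submodule.span_induction with
    | zero => rw [map_zero, h0', h0']
    | add x y _ _ hx hy => rw [map_add, ip_add', ip_add', hx, hy]
    | smul c x _ hx => rw [map_smul, ip_smul', ip_smul', hx]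
    | mem x hx =>
      obtain ⟨j, rfl⟩ := hx
      rw [ip_b', ip_b, h]

theorem adj_b (h : H.Adj A B) (i j : H.ι) : H.b.repr (A (H.b i)) j = conj (H.b.repr (B (H.b j)) i) := by
  rw [← ip_b', h, ip_b]

theorem adj_symm (h : H.Adj A B) : H.Adj B A := adj_of_b fun i j => by rw [adj_b h, Complex.conj_conj]

theorem adj_unique (h : H.Adj A B) (h' : H.Adj A B') : B = B' := H.b.ext fun j => H.b.repr.injective
  (Finsupp.ext fun i => (starRingEnd ℂ).injective ((adj_b h i j).symm.trans (adj_b h' i j)))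

theorem adj_one : H.Adj 1 1 := fun _ _ => rfl

theorem adj_mul (h : H.Adj A A') (h' : H.Adj B B') : H.Adj (A * B) (B' * A') := fun u v => by
  rw [End.mul_apply, End.mul_apply, h, h']

theorem adj_add (h : H.Adj A A') (h' : H.Adj B B') : H.Adj (A + B) (A' + B') := fun u v => by
  rw [LinearMap.add_apply, LinearMap.add_apply, ip_add, ip_add', h, h']

theorem adj_smul (h : H.Adj A A') (c : ℂ) : H.Adj (c • A) (conj c • A') := fun u v => by
  rw [LinearMap.smul_apply, LinearMap.smul_apply, ip_smul, ip_smul', h, Complex.conj_conj]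

theorem adj_neg (h : H.Adj A A') : H.Adj (-A) (-A') := by simpa using adj_smul h (-1)

theorem adj_J : H.Adj H.J H.J := adj_of_b fun i j => by
  classical
  obtain ⟨c, -, h1, h2⟩ := J_b i
  obtain ⟨c', -, -, h2'⟩ := J_b j
  by_cases h : i = j
  · subst h
    rw [h2]
    simp [h1]
  · rw [h2, h2']
    simp [Finsupp.single_eq_of_ne h, Finsupp.single_eq_of_ne (Ne.symm h)]

theorem adj_hom (h : H.Adj A B) (hA : H.Hom A d s) : H.Hom B (-d) (-s) := fun j =>
  ⟨fun i hi => (starRingEnd ℂ).injective (by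
    rw [← adj_b h, map_zero]
    exact (hA i).1 j fun e => hi (by omega)), fun i hi => (starRingEnd ℂ).injective (by
    rw [← adj_b h, map_zero]
    exact (hA i).2 j fun e => hi (by rw [e]; ring))⟩

/-! ### locally finite sums -/

/-- locally finite families -/
def LF (f : ℕ → End ℂ V) : Prop := ∀ u, ∃ N, ∀ j, N ≤ j → f j u = 0

theorem LF.fin {f : ℕ → End ℂ V} (h : LF f) (u : V) : (Function.support fun j => f j u).Finite := by
  obtain ⟨N, hN⟩ := h u
  exact (Set.finite_lt_nat N).subset fun j hj => not_le.1 fun e => hj (hN j e)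

open Classical in
/-- the sum of a locally finite family -/
noncomputable def sm (f : ℕ → End ℂ V) : End ℂ V :=
  if h : LF f then
    { toFun := fun u => ∑ᶠ j, f j u
      map_add' := fun u v => by
        simp only [map_add]
        exact finsum_add_distrib (h.fin u) (h.fin v)
      map_smul' := fun c u => by
        simp only [map_smul, RingHom.id_apply]
        exact (smul_finsum' c (h.fin u)).symm }
  else 0

variable {f g : ℕ → End ℂ V}

theorem sm_apply (h : LF f) (u : V) : sm f u = ∑ᶠ j, f j u := by rw [sm, dif_pos h]; rfl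

theorem sm_range (h : LF f) {u : V} {N : ℕ} (hN : ∀ j, N ≤ j → f j u = 0) :
    sm f u = ∑ j ∈ Finset.range N, f j u := by
  rw [sm_apply h]
  exact finsum_eq_sum_of_support_subset _ fun j hj => by simpa using not_le.1 fun e => hj (hN j e)

theorem LF.mul (h : LF f) (A : End ℂ V) : LF fun j => f j * A := fun u => h (A u)

theorem LF.mul' (h : LF f) (A : ℕ → End ℂ V) : LF fun j => A j * f j := fun u =>
  (h u).imp fun _ hN j hj => by rw [End.mul_apply, hN j hj, map_zero]

theorem LF.smul (h : LF f) (c : ℂ) : LF fun j => c • f j := fun u =>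
  (h u).imp fun _ hN j hj => by rw [LinearMap.smul_apply, hN j hj, smul_zero]

theorem LF.add (h : LF f) (h' : LF g) : LF fun j => f j + g j := fun u => by
  obtain ⟨N, hN⟩ := h u
  obtain ⟨N', hN'⟩ := h' u
  exact ⟨N + N', fun j hj => by rw [LinearMap.add_apply, hN j (by omega), hN' j (by omega), add_zero]⟩

theorem lf_of_dg {k : ℕ} (hk : 0 < k) (h : ∀ j, Dg H (f j) (d - k * j)) : LF f := fun u => by
  obtain ⟨n, hn⟩ := exists_Fl (H := H) u
  refine ⟨(n + d).toNat, fun j hj => (h j).zero hn ?_⟩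
  have : (j : ℤ) ≤ k * j := by exact_mod_cast Nat.le_mul_of_pos_left j hk
  omega

theorem sm_mul (h : LF f) (A : End ℂ V) : sm f * A = sm fun j => f j * A :=
  LinearMap.ext fun u => by rw [End.mul_apply, sm_apply h, sm_apply (h.mul A)]; rfl

theorem mul_sm (h : LF f) (A : End ℂ V) : A * sm f = sm fun j => A * f j :=
  LinearMap.ext fun u => by
    rw [End.mul_apply, sm_apply h, sm_apply (h.mul' fun _ => A), map_finsum _ (h.fin u)]; rfl

theorem sm_add (h : LF f) (h' : LF g) : (sm fun j => f j + g j) = sm f + sm g :=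
  LinearMap.ext fun u => by
    rw [LinearMap.add_apply, sm_apply h, sm_apply h', sm_apply (h.add h'), ← finsum_add_distrib (h.fin u) (h'.fin u)]; rfl

theorem sm_smul (h : LF f) (c : ℂ) : (sm fun j => c • f j) = c • sm f :=
  LinearMap.ext fun u => by
    rw [LinearMap.smul_apply, sm_apply h, sm_apply (h.smul c), smul_finsum' c (h.fin u)]; rfl

theorem LF.shift {e : ℕ} (h : LF g) (h1 : ∀ j, f (j + e) = g j) : LF f := fun u => by
  obtain ⟨N, hN⟩ := h u
  refine ⟨N + e, fun j hj => ?_⟩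
  rw [show j = j - e + e by omega, h1, hN _ (by omega)]

theorem sm_shift {e : ℕ} (h : LF g) (h0 : ∀ j < e, f j = 0) (h1 : ∀ j, f (j + e) = g j) : sm f = sm g :=
  LinearMap.ext fun u => by
    obtain ⟨N, hN⟩ := h u
    rw [sm_range h hN, sm_range (h.shift h1) (N := e + N) fun j hj => by
      rw [show j = j - e + e by omega, h1, hN _ (by omega)], Finset.sum_range_add,
      Finset.sum_eq_zero fun j hj => by rw [h0 j (Finset.mem_range.1 hj)]; rfl, zero_add]
    exact Finset.sum_congr rfl fun j _ => by rw [add_comm, h1]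

theorem ez_nat (u : ℕ → End ℂ V) (n : ℕ) : ez u n = u n := by simp [ez]

theorem ez_neg (u : ℕ → End ℂ V) {n : ℤ} (h : n < 0) : ez u n = 0 := if_neg (not_le.2 h)

/-- the main computation: `E * (A_{j} B_{j})` summed -/
theorem sm_comm (h : LF f) {E : End ℂ V} {g₁ g₂ : ℕ → End ℂ V} (h₁ : LF g₁) (h₂ : LF g₂) {a c₁ c₂ : ℂ}
    (e : ∀ j, E * f j = a • (f j * E) + c₁ • g₁ j + c₂ • g₂ j) :
    E * sm f = a • (sm f * E) + c₁ • sm g₁ + c₂ • sm g₂ := by
  rw [mul_sm h, sm_mul h, ← sm_smul (h.mul E), ← sm_smul h₁, ← sm_smul h₂,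
    ← sm_add ((h.mul E).smul a) (h₁.smul c₁), ← sm_add (((h.mul E).smul a).add (h₁.smul c₁)) (h₂.smul c₂)]
  exact congrArg sm (funext e)

end Cfsg.Agent.PQ.Rl4
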