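import Cfsg.Agent.PQ.Rl4.Ser

/-!
# PQ, box REL (helper4)
-/

set_option autoImplicit false
set_option linter.unusedSectionVars false

namespace Cfsg.Agent.PQ.Rl4

open Module Cfsg.Agent.PQ.Th Cfsg.Agent.H615.GU
open scoped ComplexConjugate

variable {V : Type} [AddCommGroup V] [Module ℂ V] {H : HS V} {C : Cyc H}

/-! ### the two abstract cases -/

section Cases

variable {E : End ℂ V} {e : ℕ} {s : ZMod 4} {c : ℂ}

theorem dz_eq (hs : ¬ Od s) (i : H.ι) : H.dl i = open Classical in if Od (H.df i + s) then 0 else 1 := by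
  rw [HS.dl, od_even hs]

/-- the rows are preserved -/
theorem caseA (hE : H.Hom E e s) (hs : ¬ Od s) (hR : ∀ d, E * C.R d = C.R d * E + (-c) • C.R (d + e))
    (hL : ∀ d, E * C.L d = C.L d * E + (-c) • C.L (d + e)) (r : Bool) (x : ℤ) :
    lf E * C.ps (r, x) = C.ps (r, x) * lf E + c • C.ps (r, x + e) ∧
      lf E * C.pt (r, x + e) = C.pt (r, x + e) * lf E - c • C.pt (r, x) := by
  have hd := df_of_hom hE
  have hJ := hd.J hs
  have hK : ∀ t, K C t * E = E * K C t + (2 * c) • K C (t + e) := fun t => H.b.ext fun i => by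
    have h1 := g4' C (hd _ _ (b_cmp i)) (dz_eq hs i) t 0
    have h2 := g4' C (b_cmp i) (δ := H.dl i) rfl t 0
    have h3 := g4' C (b_cmp i) (δ := H.dl i) rfl (t + e) 0
    have h4 := g4' C (b_cmp i) (δ := H.dl i) rfl t (-e)
    have hR' : ∀ d v, E (C.R d v) = C.R d (E v) + (-c) • C.R (d + e) v := fun d v => LinearMap.congr_fun (hR d) v
    have hL' : ∀ d v, E (C.L d v) = C.L d (E v) + (-c) • C.L (d + e) v := fun d v => LinearMap.congr_fun (hL d) v
    simp only [sub_zero, neg_zero, sub_neg_eq_add, neg_neg] at h1 h2 h3 h4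
    rw [LinearMap.add_apply, LinearMap.smul_apply, End.mul_apply, End.mul_apply, h1, h2, two_mul, add_smul]
    nth_rw 1 [h3]
    rw [h4]
    simp only [map_add, map_smul, hR', hL', zero_add, show t - H.dl i + e = t + e - H.dl i by ring]
    module
  obtain ⟨h1, h2⟩ := h_comm C (dg_of_hom hE) hK
  have h3 := inv_comm (hs_zero C) h2
  have hX : ∀ A : ℤ → End ℂ V, (∀ d, E * A d = A d * E + (-c) • A (d + e)) →
      ∀ d, E * C.X A d = C.X A d * E + c • C.X A (d + e) := fun A hA d => by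
    rw [X_comm C hA h3]
    module
  have hY : ∀ A : ℤ → End ℂ V, (∀ d, Dg H (A d) d) → (∀ d, E * A d = A d * E + (-c) • A (d + e)) →
      ∀ d, E * C.Y A d = C.Y A d * E + (-c) • C.Y A (d + e) := fun A hA hA' d => by
    rw [Y_comm C hA hA (a := 1) (fun d => by rw [one_smul, hA']) h1, one_smul]
  cases r
  · exact ⟨up_comm (hd.po hs) (hd.pe hs) (hX _ hR) x,
      dn_comm (hd.po hs) (hd.pe hs) (hY _ (fun d => dg_of_hom (hom_L C d)) hL) x⟩
  · refine ⟨up_comm (A := fun d => C.X C.L d * H.J) (A' := fun d => C.X C.L d * H.J) (hd.po hs) (hd.pe hs)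
      (fun d => ?_) x, dn_comm (A := fun d => H.J * C.Y C.R d) (A' := fun d => H.J * C.Y C.R d) (hd.po hs) (hd.pe hs)
      (fun d => ?_) x⟩
    · rw [← mul_assoc, hX _ hL, add_mul, mul_assoc, mul_assoc, hJ, smul_mul_assoc]
    · rw [← mul_assoc, ← hJ, mul_assoc, hY _ (fun d => dg_of_hom (C.R_hom d)) hR, mul_add, mul_assoc, mul_smul_comm]

/-- the rows are interchanged -/
theorem caseB (hC : CAR C) {D : End ℂ V} (hD : H.Hom D e s) (hs : ¬ Od s)
    (hR : ∀ d, D * C.R d = -(C.R d * D) + c • C.L (d + e)) (hL : ∀ d, D * C.L d = -(C.L d * D) + c • C.R (d + e))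
    (r : Bool) (x : ℤ) :
    lf (-H.J * D) * C.ps (r, x) = C.ps (r, x) * lf (-H.J * D) + c • C.ps (!r, x + e) ∧
      lf (-H.J * D) * C.pt (!r, x + e) = C.pt (!r, x + e) * lf (-H.J * D) - c • C.pt (r, x) := by
  have hd := df_of_hom hD
  have hK : ∀ t, K C t * D = D * K C t + (0 : ℂ) • K C (t + e) := fun t => H.b.ext fun i => by
    have h1 := g4' C (hd _ _ (b_cmp i)) (dz_eq hs i) t 0
    have h2 := g4' C (b_cmp i) (δ := H.dl i) rfl t 0
    have h3 := hC.rr (t + e) 0 i
    have h4 := hC.ll t e i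
    have hR' : ∀ d v, D (C.R d v) = -C.R d (D v) + c • C.L (d + e) v := fun d v => LinearMap.congr_fun (hR d) v
    have hL' : ∀ d v, D (C.L d v) = -C.L d (D v) + c • C.R (d + e) v := fun d v => LinearMap.congr_fun (hL d) v
    simp only [sub_zero, neg_zero, zero_add] at h1 h2 h3
    rw [zero_smul, add_zero, End.mul_apply, End.mul_apply, h1, h2]
    simp only [map_add, map_smul, map_neg, hR', hL', zero_add, show t - H.dl i + e = t + e - H.dl i by ring, h3, h4,
      add_comm (H.dl i)]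
    module
  obtain ⟨h1, h2⟩ := h_comm C (dg_of_hom hD) hK
  simp only [zero_smul, add_zero] at h2
  obtain ⟨E, hE⟩ : ∃ E, E = -H.J * D := ⟨_, rfl⟩
  have hd' : Df H E s := by rw [hE]; exact ((df_of_hom hom_J).neg.mul hd).cast (zero_add s)
  have hJ := hd'.J hs
  have hc : ∀ A : End ℂ V, A * H.J = H.J * A → A * D = D * A → A * E = E * A := fun A a1 a2 => by
    rw [hE, ← mul_assoc, mul_neg, a1, neg_mul, neg_mul, neg_mul, mul_assoc, a2, mul_assoc]
  have hs' : ∀ A B : End ℂ V, H.J * A = -(A * H.J) → H.J * B = -(B * H.J) → D * A = -(A * D) + c • B →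
      E * A = A * E + c • (B * H.J) := fun A B a1 a2 a3 => by
    rw [hE, mul_assoc, a3, mul_add, neg_mul_neg, ← mul_assoc, a1, mul_smul_comm, neg_mul, neg_mul, a2, neg_neg, neg_mul,
      mul_neg, mul_assoc]
  have hR' := fun d => hs' _ _ (J_R C d) (J_L C (d + e)) (hR d)
  have hL' := fun d => hs' _ _ (J_L C d) (J_R C (d + e)) (hL d)
  have h3 : ∀ j : ℕ, E * Th.inv C.hs j = Th.inv C.hs j * E + (0 : ℂ) • ez (Th.inv C.hs) (j - e) := fun j => by
    rw [zero_smul, add_zero, inv_commute (hs_zero C) fun n => hc _ (J_hs C n) (h2 n)]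
  have h4 := fun n => hc _ (J_h C n) (h1 n)
  have dR := fun d => dg_of_hom (C.R_hom d)
  have dL := fun d => dg_of_hom (hom_L C d)
  rw [← hE]
  cases r
  · refine ⟨up_comm (A' := fun d => C.X C.L d * H.J) (hd'.po hs) (hd'.pe hs) (fun d => ?_) x,
      dn_comm (A := fun d => H.J * C.Y C.R d) (hd'.po hs) (hd'.pe hs) (fun d => ?_) x⟩
    · rw [X_comm C (A' := fun d => C.L d * H.J) hR' h3, zero_smul, add_zero, X_J]
    · rw [← mul_assoc, ← hJ, mul_assoc, Y_comm C dR (dg_J dL) (a := 1) (fun d => by rw [one_smul, hR']) h4, one_smul,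
        Y_J C dL (J_L C), mul_add, mul_assoc, mul_smul_comm, mul_neg, ← mul_assoc H.J H.J, J_J, one_mul, smul_neg,
        neg_smul]
  · refine ⟨up_comm (A := fun d => C.X C.L d * H.J) (hd'.po hs) (hd'.pe hs) (fun d => ?_) x,
      dn_comm (A' := fun d => H.J * C.Y C.R d) (hd'.po hs) (hd'.pe hs) (fun d => ?_) x⟩
    · rw [← mul_assoc, X_comm C (A' := fun d => C.R d * H.J) hL' h3, zero_smul, add_zero, X_J, add_mul, mul_assoc,
        mul_assoc, hJ, smul_mul_assoc, mul_assoc, J_J, mul_one]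
    · rw [Y_comm C dL (dg_J dR) (a := 1) (fun d => by rw [one_smul, hL']) h4, one_smul, Y_J C dR (J_R C), smul_neg,
        neg_smul]

end Cases

/-! ### the local operators -/

variable (P : Loc C)

attribute [local instance] Loc.fI Loc.dI

theorem ep_sq (ng : Bool) (j : ℕ) : (ep ng j : ℂ) * ep ng j = 1 := by
  unfold ep
  split_ifs
  · push_cast
    rw [← mul_pow]
    simp
  · simp

theorem sh_even (ng : Bool) (j : ℕ) : ¬ Od (sh ng j) := by
  unfold sh
  split_ifs
  · generalize (j : ZMod 4) = z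
    revert z
    unfold Od
    decide
  · unfold Od
    decide

/-- the relation with `T` -/
theorem D_T {j : ℕ} (hj : 0 < j) (α : P.I → ℂ) (d : ℤ) : P.D j α * C.T d =
    (ep P.ng j : ℂ) • (C.T d * P.D j α) + (-(ep P.ng j * P.cf j α)) • C.T (d + (P.k * j : ℕ)) := by
  let U := nw fun j => P.D j 1
  let Us := nw fun j => P.Ds j 1
  have dUs : ∀ b : ℕ, Dg H (Us b) (-P.k * b) := dg_nw fun n => by
    simpa using dg_of_hom (adj_hom (P.D_adj n 1) (P.D_hom n 1))
  have lUs : LF Us := lf_of_dg (d := 0) P.k_pos fun b => by simpa using dUs b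
  have lT : ∀ d : ℤ, LF fun a : ℕ => P.T0 (d - P.k * a) := fun d => lf_of_dg P.k_pos fun a => dg_of (P.T0_gr _)
  let W : ℤ → End ℂ V := fun d => sm fun a : ℕ => U a * P.T0 (d - P.k * a)
  have hT : ∀ d, C.T d = sm fun b : ℕ => W (d + P.k * b) * Us b := fun d => H.b.ext fun x => by
    have k1 : ∀ a : ℕ, (a : ℤ) ≤ P.k * a := fun a => by exact_mod_cast Nat.le_mul_of_pos_left a P.k_pos
    rw [P.fac, Finset.sum_comm, sm_range (lUs.mul' _) (N := H.rk x + 1) fun b hb => by
      rw [End.mul_apply, (dUs b).zero (b_Fl x) (by have := k1 b; rw [neg_mul]; omega), map_zero]]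
    refine Finset.sum_congr rfl fun b _ => ?_
    rw [End.mul_apply, sm_range ((lT _).mul' _) (N := (H.rk x + d).toNat + 1) fun a ha => by
      rw [End.mul_apply, (dg_of (P.T0_gr _)).zero (dUs b _ _ (b_Fl x)) (by have := k1 a; rw [neg_mul]; omega), map_zero]]
    exact Finset.sum_congr rfl fun a _ => by rw [End.mul_apply, sub_add_eq_add_sub]
  have hU : ∀ a, U a * P.D j α = P.D j α * U a := fun a => by
    simpa using nw_comm (P := fun j => P.D j 1) (D := P.D j α) (c := 0) hj (fun i => by simpa using P.DD i 1 j α) a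
  have hUs : ∀ b : ℕ, Us b * P.D j α = P.D j α * Us b + P.cf j α • ez Us (b - j) :=
    nw_comm hj fun i => by
      rw [P.DsD]
      split_ifs with h
      · subst h
        simp [Loc.cf, mul_div_assoc]
      · rfl
  have hW : ∀ d, P.D j α * W d = (ep P.ng j : ℂ) • (W d * P.D j α) := fun d => by
    rw [sm_comm ((lT d).mul' U) (lT d) (lT d) (a := ep P.ng j) (c₁ := 0) (c₂ := 0) fun a => by
      rw [← mul_assoc, ← hU, mul_assoc, mul_assoc, P.T0_D, mul_smul_comm, smul_smul, ep_sq]
      simp]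
    simp [W]
  have h1 : ∀ b : ℕ, W (d + P.k * (b + j : ℕ)) * ez Us ((b + j : ℕ) - j) = W (d + (P.k * j : ℕ) + P.k * b) * Us b :=
    fun b => by
      rw [Nat.cast_add, add_sub_cancel_right, ez_nat]
      congr 2
      push_cast
      ring
  rw [hT, hT, ← sm_shift (e := j) (f := fun b : ℕ => W (d + P.k * b) * ez Us (b - j)) (lUs.mul' _)
    (fun b hb => by rw [ez_neg Us (show (b : ℤ) - j < 0 by omega), mul_zero]) h1,
    sm_comm (lUs.mul' _) (LF.shift (f := fun b : ℕ => W (d + P.k * b) * ez Us (b - j)) (lUs.mul' _) h1) lUs (a := ep P.ng j) (c₁ := -(ep P.ng j * P.cf j α)) (c₂ := 0) fun b => ?_,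
    zero_smul, add_zero]
  rw [← mul_assoc, hW, mul_assoc, hUs, mul_add, mul_smul_comm, smul_mul_assoc, mul_assoc]
  module

theorem rel_st (hC : CAR C) (j : ℕ) (α : P.I → ℂ) (c : Site) :
    P.Dh j α * C.ps c = C.ps c * P.Dh j α + P.cf j α • C.ps (P.sig j c) ∧
      P.Dh j α * C.pt (P.sig j c) = C.pt (P.sig j c) * P.Dh j α - P.cf j α • C.pt c := by
  obtain ⟨r, x⟩ := c
  rcases j.eq_zero_or_pos with rfl | hj
  · have h1 : P.Dh 0 α = 0 := Finsupp.lhom_ext fun M v => by rw [Loc.Dh, P.D0, mul_zero, lf_single]; simp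
    have h2 : P.cf 0 α = 0 := by simp [Loc.cf, nn, ep]
    simp [h1, h2]
  have hD : H.Hom (P.D j α) (P.k * j : ℕ) (sh P.ng j) := by simpa using P.D_hom j α
  have hT := D_T P hj α
  have hd := df_of_hom hD
  have dR := fun d => df_of_hom (C.R_hom d)
  have dL := fun d => df_of_hom (hom_L C d)
  by_cases h : P.ng = true ∧ Odd j
  · have e1 : (ep P.ng j : ℂ) = -1 := by simp [ep, h.1, h.2.neg_one_pow]
    have e2 : sh P.ng j = 2 := by
      obtain ⟨m, rfl⟩ := h.2
      rw [sh, if_pos h.1]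
      push_cast
      generalize (m : ZMod 4) = z
      revert z
      decide
    have e3 : P.sig j (r, x) = (!r, x + (P.k * j : ℕ)) := by simp [Loc.sig, h.1, h.2]
    rw [e2] at hd
    have h1 := fun d => Df.split (H := H) (A := P.D j α * C.R d - -(C.R d * P.D j α) - P.cf j α • C.L (d + (P.k * j : ℕ)))
      (B := P.D j α * C.L d - -(C.L d * P.D j α) - P.cf j α • C.R (d + (P.k * j : ℕ))) (s := 3) (t := 1)
      (((hd.mul (dR d)).sub ((dR d).mul hd).neg).sub ((dL _).smul _))
      (((hd.mul (dL d)).sub ((dL d).mul hd).neg).sub ((dR _).smul _)) (by decide) (by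
        have h2 := hT d
        rw [e1, Cyc.T, Cyc.T, mul_add, add_mul] at h2
        linear_combination (norm := module) h2)
    rw [e3, Loc.Dh, Loc.hat, if_pos h]
    exact caseB hC hD (sh_even _ _) (fun d => by rw [← sub_eq_zero, ← sub_sub, (h1 d).1])
      (fun d => by rw [← sub_eq_zero, ← sub_sub, (h1 d).2]) r x
  · have e0 : P.ng = false ∨ Even j := by
      rw [not_and_or, Nat.not_odd_iff_even, Bool.not_eq_true] at h
      exact h
    have e1 : (ep P.ng j : ℂ) = 1 := by
      rcases e0 with e0 | e0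
      · simp [ep, e0]
      · simp [ep, e0.neg_one_pow]
    have e2 : sh P.ng j = 0 := by
      rcases e0 with e0 | ⟨m, rfl⟩
      · simp [sh, e0]
      · rw [sh]
        split_ifs
        · push_cast
          generalize (m : ZMod 4) = z
          revert z
          decide
        · rfl
    have e3 : P.sig j (r, x) = (r, x + (P.k * j : ℕ)) := by
      rcases e0 with e0 | e0
      · simp [Loc.sig, e0]
      · simp [Loc.sig, Nat.not_odd_iff_even.2 e0]
    rw [e2] at hd
    have h1 := fun d => Df.split (H := H) (A := P.D j α * C.R d - C.R d * P.D j α - (-P.cf j α) • C.R (d + (P.k * j : ℕ)))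
      (B := P.D j α * C.L d - C.L d * P.D j α - (-P.cf j α) • C.L (d + (P.k * j : ℕ))) (s := 1) (t := -1)
      (((hd.mul (dR d)).sub ((dR d).mul hd)).sub ((dR _).smul _))
      (((hd.mul (dL d)).sub ((dL d).mul hd)).sub ((dL _).smul _)) (by decide) (by
        have h2 := hT d
        rw [e1, Cyc.T, Cyc.T, mul_add, add_mul] at h2
        linear_combination (norm := module) h2)
    rw [e3, Loc.Dh, Loc.hat, if_neg h, one_mul]
    exact caseA hD (sh_even _ _) (fun d => by rw [← sub_eq_zero, ← sub_sub, (h1 d).1])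
      (fun d => by rw [← sub_eq_zero, ← sub_sub, (h1 d).2]) r x

theorem adj_Dh (j : ℕ) (α : P.I → ℂ) : H.fock.Adj (P.Dh j α) (P.Dsh j α) := by
  refine adj_lf ?_
  unfold Loc.hat
  split_ifs
  · rw [neg_mul, neg_mul, (df_of_hom (P.D_hom j α)).J (sh_even _ _)]
    exact adj_neg (adj_mul (P.D_adj j α) adj_J)
  · rw [one_mul, one_mul]
    exact P.D_adj j α

/-- **box REL** -/
theorem boxREL : BoxREL := by
  intro V _ _ H C P hC
  refine ⟨adj_Dh P, fun j α c => (rel_st P hC j α c).1, fun j α c => (rel_st P hC j α c).2, fun j α c => ?_,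
    fun j α c => ?_⟩
  · have h1 := adj_mul (adj_symm (hC.adj (P.sig j c))) (adj_Dh P j α)
    have h2 := adj_add (adj_mul (adj_Dh P j α) (adj_symm (hC.adj (P.sig j c)))) (adj_smul (adj_symm (hC.adj c)) (P.cf j α))
    rw [(rel_st P hC j α c).2, sub_add_cancel] at h2
    exact adj_unique h1 h2
  · have h1 := adj_mul (adj_Dh P j α) (hC.adj c)
    have h2 := adj_add (adj_mul (hC.adj c) (adj_Dh P j α)) (adj_smul (hC.adj (P.sig j c)) (P.cf j α))
    rw [← (rel_st P hC j α c).1] at h2
    rw [adj_unique h1 h2, add_sub_cancel_right]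

end Cfsg.Agent.PQ.Rl4
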