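import Cfsg.Agent.PQ.Rl4.Bas

/-!
# PQ, box REL: series, the operators `K`, `X`, `Y`, the Fock space (helper4)
-/

set_option autoImplicit false
set_option linter.unusedSectionVars false

namespace Cfsg.Agent.PQ.Rl4

open Cfsg.Agent.PQ.Th PowerSeries
open Module (End)
open scoped ComplexConjugate

variable {V : Type} [AddCommGroup V] [Module ℂ V] {H : HS V}

/-! ### series -/

theorem inv_zero' (u : ℕ → End ℂ V) : Th.inv u 0 = 1 := by rw [Th.inv]

theorem inv_succ (u : ℕ → End ℂ V) (n : ℕ) :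
    Th.inv u (n + 1) = -∑ i ∈ Finset.range (n + 1), u (i + 1) * Th.inv u (n - i) := by
  rw [Th.inv, Finset.sum_range]

theorem mk_mul_inv {u : ℕ → End ℂ V} (h0 : u 0 = 1) : mk u * mk (Th.inv u) = 1 := by
  ext1 n
  rw [coeff_mul, coeff_one]
  cases n with
  | zero => simp [h0, inv_zero']
  | succ n =>
    rw [Finset.Nat.sum_antidiagonal_succ, Finset.Nat.sum_antidiagonal_eq_sum_range_succ_mk, if_neg n.succ_ne_zero]
    simp only [coeff_mk]
    rw [h0, one_mul, inv_succ, neg_add_cancel]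

theorem inv_mul_mk {u : ℕ → End ℂ V} (h0 : u 0 = 1) : mk (Th.inv u) * mk u = 1 := by
  have h1 := mk_mul_inv (inv_zero' u)
  have h2 : mk u = mk (Th.inv (Th.inv u)) := by
    rw [← one_mul (mk (Th.inv (Th.inv u))), ← mk_mul_inv h0, mul_assoc, h1, mul_one]
  rw [h2, h1]

theorem coeff_shift (u : ℕ → End ℂ V) (e n : ℕ) : coeff n (X ^ e * mk u) = ez u (n - e) := by
  rw [coeff_X_pow_mul']
  split_ifs with h
  · rw [coeff_mk, ← Nat.cast_sub h, ez_nat]
  · rw [ez_neg _ (by omega)]

theorem inv_comm {u : ℕ → End ℂ V} (h0 : u 0 = 1) {D : End ℂ V} {c : ℂ} {e : ℕ}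
    (h : ∀ n : ℕ, u n * D = D * u n + c • ez u (n - e)) (n : ℕ) :
    D * Th.inv u n = Th.inv u n * D + c • ez (Th.inv u) (n - e) := by
  have h1 : mk u * C D = C D * mk u + c • (X ^ e * mk u) := by
    ext1 m
    rw [coeff_mul_C, map_add, coeff_C_mul, coeff_smul, coeff_shift, coeff_mk, h]
  have h2 : C D * mk (Th.inv u) = mk (Th.inv u) * C D + c • (X ^ e * mk (Th.inv u)) := by
    have h3 := congrArg (fun z => mk (Th.inv u) * z * mk (Th.inv u)) h1
    simp only [mul_add, add_mul, mul_smul_comm, smul_mul_assoc] at h3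
    rw [← mul_assoc, inv_mul_mk h0, one_mul, mul_assoc, mul_assoc, mk_mul_inv h0, mul_one, mul_assoc, mul_assoc,
      mk_mul_inv h0, mul_one, ← X_pow_mul] at h3
    exact h3
  have h3 := congrArg (coeff n) h2
  rwa [map_add, coeff_mul_C, coeff_C_mul, coeff_smul, coeff_shift, coeff_mk] at h3

theorem inv_commute {u : ℕ → End ℂ V} (h0 : u 0 = 1) {D : End ℂ V} (h : ∀ n : ℕ, u n * D = D * u n) (n : ℕ) :
    D * Th.inv u n = Th.inv u n * D := by
  simpa using inv_comm h0 (c := 0) (e := 0) (fun n => by simpa using h n) n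

theorem dg_inv {u : ℕ → End ℂ V} (h : ∀ n : ℕ, Dg H (u n) (-n)) (n : ℕ) : Dg H (Th.inv u n) (-n) := by
  induction n using Nat.strong_induction_on with
  | _ n ih =>
    cases n with
    | zero => rw [inv_zero']; exact dg_one
    | succ n =>
      rw [inv_succ]
      refine (Dg.sum _ fun i hi => ((h _).mul (ih _ (by omega))).mono ?_).neg
      have := Finset.mem_range.1 hi
      omega

theorem nw_zero (P : ℕ → End ℂ V) : nw P 0 = 1 := by rw [nw]

theorem nw_succ (P : ℕ → End ℂ V) (n : ℕ) :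
    nw P (n + 1) = ((n + 1 : ℂ)⁻¹) • ∑ i ∈ Finset.range (n + 1), P (i + 1) * nw P (n - i) := by
  rw [nw, Finset.sum_range]

theorem nw_ez (P : ℕ → End ℂ V) (m : ℤ) {N : ℕ} (hN : m ≤ N) :
    (m : ℂ) • ez (nw P) m = ∑ i ∈ Finset.range N, P (i + 1) * ez (nw P) (m - 1 - i) := by
  rcases le_or_gt m 0 with h | h
  · rw [Finset.sum_eq_zero fun i _ => by rw [ez_neg _ (by omega), mul_zero]]
    rcases h.eq_or_lt with rfl | h
    · simp
    · rw [ez_neg _ h, smul_zero]
  · obtain ⟨n, rfl⟩ : ∃ n : ℕ, m = (n + 1 : ℕ) := ⟨(m - 1).toNat, by omega⟩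
    rw [ez_nat, nw_succ, smul_smul, Int.cast_natCast, Nat.cast_succ, mul_inv_cancel₀ (Nat.cast_add_one_ne_zero n), one_smul]
    refine (Finset.sum_subset_zero_on_sdiff (Finset.range_subset_range.2 (by omega)) (fun i hi => ?_) fun i hi => ?_)
    · have := hi
      simp only [Finset.mem_sdiff, Finset.mem_range] at this
      rw [ez_neg _ (by omega), mul_zero]
    · have := Finset.mem_range.1 hi
      rw [← ez_nat (nw P) (n - i)]
      congr 2
      omega

theorem nw_comm {P : ℕ → End ℂ V} {D : End ℂ V} {j : ℕ} {c : ℂ} (hj : 0 < j)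
    (h : ∀ i, P i * D = D * P i + (if i = j then (j : ℂ) * c else 0) • 1) (n : ℕ) :
    nw P n * D = D * nw P n + c • ez (nw P) (n - j) := by
  induction n using Nat.strong_induction_on with
  | _ n ih =>
    cases n with
    | zero => rw [nw_zero, ez_neg _ (by omega), smul_zero, add_zero, one_mul, mul_one]
    | succ n =>
      have h1 : ∑ i ∈ Finset.range (n + 1), (if i + 1 = j then (j : ℂ) * c else 0) • nw P (n - i) =
          ((j : ℂ) * c) • ez (nw P) ((n + 1 : ℕ) - j) := by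
        rcases le_or_gt j (n + 1) with h2 | h2
        · rw [Finset.sum_eq_single (j - 1) (fun i _ hi => by rw [if_neg (by omega), zero_smul])
            (fun hi => absurd (Finset.mem_range.2 (by omega)) hi), if_pos (by omega), ← Nat.cast_sub h2, ez_nat]
          congr 2
          omega
        · rw [ez_neg _ (by omega), smul_zero]
          exact Finset.sum_eq_zero fun i hi => by rw [if_neg (by have := Finset.mem_range.1 hi; omega), zero_smul]
      have h2 := nw_ez P ((n + 1 : ℕ) - j) (N := n + 1) (by omega)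
      have h3 : (∑ i ∈ Finset.range (n + 1), P (i + 1) * nw P (n - i)) * D =
          D * (∑ i ∈ Finset.range (n + 1), P (i + 1) * nw P (n - i)) + ((n + 1 : ℂ) * c) • ez (nw P) ((n + 1 : ℕ) - j) := by
        rw [show (n + 1 : ℂ) * c = j * c + c * (((n + 1 : ℕ) - j : ℤ) : ℂ) by push_cast; ring, add_smul, mul_smul c, h2,
          ← h1, Finset.sum_mul, Finset.mul_sum, Finset.smul_sum, ← Finset.sum_add_distrib, ← Finset.sum_add_distrib]
        refine Finset.sum_congr rfl fun i hi => ?_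
        have h4 := Finset.mem_range.1 hi
        rw [mul_assoc, ih _ (by omega), mul_add, ← mul_assoc, h, add_mul, mul_assoc, smul_mul_assoc, one_mul,
          mul_smul_comm, add_assoc, show ((n - i : ℕ) : ℤ) - j = (n + 1 : ℕ) - j - 1 - i by omega]
      rw [nw_succ, smul_mul_assoc, h3, smul_add, mul_smul_comm, smul_smul,
        inv_mul_cancel_left₀ (Nat.cast_add_one_ne_zero n)]

theorem dg_nw {P : ℕ → End ℂ V} {k : ℤ} (h : ∀ n : ℕ, Dg H (P n) (k * n)) (n : ℕ) : Dg H (nw P n) (k * n) := by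
  induction n using Nat.strong_induction_on with
  | _ n ih =>
    cases n with
    | zero => rw [nw_zero, Nat.cast_zero, mul_zero]; exact dg_one
    | succ n =>
      rw [nw_succ]
      refine (Dg.sum _ fun i hi => ((h _).mul (ih _ (by omega))).mono (le_of_eq ?_)).smul _
      have := Finset.mem_range.1 hi
      rw [← mul_add]
      congr 1
      omega

/-! ### the Fock space -/

theorem mv_single (s : ℤ) (A : ℤ → End ℂ V) (M : ℤ) (v : V) :
    mv s A (Finsupp.single M v) = Finsupp.single (M + s) (A M v) := by simp [mv]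

theorem lf_single (A : End ℂ V) (M : ℤ) (v : V) : lf A (Finsupp.single M v) = Finsupp.single M (A v) := by simp [lf]

theorem mv_comm {E : End ℂ V} {A A' : ℤ → End ℂ V} {c : ℂ} (s : ℤ) (h : ∀ M, E * A M = A M * E + c • A' M) :
    lf E * mv s A = mv s A * lf E + c • mv s A' := Finsupp.lhom_ext fun M v => by
  rw [LinearMap.add_apply, LinearMap.smul_apply, Module.End.mul_apply, Module.End.mul_apply, mv_single, lf_single, lf_single, mv_single,
    mv_single, ← Module.End.mul_apply, h, Finsupp.smul_single, ← Finsupp.single_add]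
  rfl

theorem up_comm {E : End ℂ V} {A A' : ℤ → End ℂ V} {c : ℂ} {e : ℤ} (ho : H.po * E = E * H.po) (he : H.pe * E = E * H.pe)
    (h : ∀ d, E * A d = A d * E + c • A' (d + e)) (x : ℤ) :
    lf E * Cyc.up (H := H) A x = Cyc.up (H := H) A x * lf E + c • Cyc.up (H := H) A' (x + e) := by
  have h1 : ∀ Q : End ℂ V, Q * E = E * Q → ∀ M, E * (A (x - M) * Q) = A (x - M) * Q * E + c • (A' (x + e - M) * Q) :=
    fun Q hQ M => by rw [← mul_assoc, h, add_mul, mul_assoc, mul_assoc, hQ, smul_mul_assoc, sub_add_eq_add_sub]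
  rw [Cyc.up, Cyc.up, mul_add, mv_comm _ (h1 _ ho), mv_comm _ (h1 _ he), add_mul, smul_add]
  abel

theorem dn_comm {E : End ℂ V} {A A' : ℤ → End ℂ V} {c : ℂ} {e : ℤ} (ho : H.po * E = E * H.po) (he : H.pe * E = E * H.pe)
    (h : ∀ d, E * A d = A d * E + (-c) • A' (d + e)) (x : ℤ) :
    lf E * Cyc.dn (H := H) A (x + e) = Cyc.dn (H := H) A (x + e) * lf E - c • Cyc.dn (H := H) A' x := by
  have h1 : ∀ Q : End ℂ V, Q * E = E * Q → ∀ M, E * (A (M - (x + e)) * Q) =
      A (M - (x + e)) * Q * E + (-c) • (A' (M - x) * Q) := fun Q hQ M => by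
    rw [← mul_assoc, h, add_mul, mul_assoc, mul_assoc, hQ, smul_mul_assoc, show M - (x + e) + e = M - x by ring]
  rw [Cyc.dn, Cyc.dn, mul_add, mv_comm _ (h1 _ ho), mv_comm _ fun M => h1 _ he (M - 1), add_mul]
  module

theorem adj_lf {A B : End ℂ V} (h : H.Adj A B) : H.fock.Adj (lf A) (lf B) := adj_of_b fun i j => by
  classical
  have h1 : ∀ (i : H.fock.ι), H.fock.b i = Finsupp.single i.1 (H.b i.2) := fun i =>
    congrFun (Finsupp.coe_basis fun _ : ℤ => H.b) i
  have h2 : ∀ (g : ℤ →₀ V) (i : H.fock.ι), H.fock.b.repr g i = H.b.repr (g i.1) i.2 := fun g i =>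
    Finsupp.basis_repr (fun _ : ℤ => H.b) g i
  rw [h1, h1, h2, h2, lf_single, lf_single]
  by_cases e : i.1 = j.1
  · rw [e, Finsupp.single_eq_same, Finsupp.single_eq_same, adj_b h]
  · rw [Finsupp.single_eq_of_ne e, Finsupp.single_eq_of_ne (Ne.symm e)]
    simp

/-! ### the operators `K`, `X`, `Y` -/

variable (C : Cyc H)

theorem hs_zero : C.hs 0 = 1 := adj_unique (C.h_adj 0) (by rw [C.h0]; exact adj_one)

theorem hom_hs (k : ℕ) : H.Hom (C.hs k) (-k) 0 := by simpa using adj_hom (C.h_adj k) (C.h_hom k)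

theorem hom_L (d : ℤ) : H.Hom (C.L d) d (-1) := by simpa using adj_hom (C.R_adj (-d)) (C.R_hom (-d))

theorem lf_hs : LF C.hs := lf_of_dg (d := 0) one_pos fun j => by simpa using dg_of_hom (hom_hs C j)

theorem lf_inv : LF (Th.inv C.hs) :=
  lf_of_dg (d := 0) one_pos fun j => by simpa using dg_inv (fun n => dg_of_hom (hom_hs C n)) j

theorem lf_fam {A : ℤ → End ℂ V} (hA : ∀ d, Dg H (A d) d) (d : ℤ) : LF fun j : ℕ => A (d - j) :=
  lf_of_dg (d := d) one_pos fun j => by simpa using hA (d - j)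

theorem X_eq (A : ℤ → End ℂ V) (d : ℤ) : C.X A d = sm fun j : ℕ => A (d + j) * Th.inv C.hs j := H.b.ext fun i => by
  rw [Cyc.X, mk'_b, sm_range ((lf_inv C).mul' _) (N := H.rk i + 1) fun j hj => by
    rw [Module.End.mul_apply, (dg_inv (fun n => dg_of_hom (hom_hs C n)) j).zero (b_Fl i) (by omega), map_zero]]
  rfl

theorem Y_eq {A : ℤ → End ℂ V} (hA : ∀ d, Dg H (A d) d) (d : ℤ) :
    C.Y A d = sm fun j : ℕ => Th.inv C.h j * A (d - j) := H.b.ext fun i => by
  rw [Cyc.Y, mk'_b, sm_range ((lf_fam hA d).mul' _) (N := (H.rk i + d).toNat + 1) fun j hj => by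
    rw [Module.End.mul_apply, (hA _).zero (b_Fl i) (by omega), map_zero]]
  rfl

theorem X_comm {E : End ℂ V} {A A' : ℤ → End ℂ V} {c₁ c₂ : ℂ} {e : ℕ} (hA : ∀ d, E * A d = A d * E + c₁ • A' (d + e))
    (hI : ∀ j : ℕ, E * Th.inv C.hs j = Th.inv C.hs j * E + c₂ • ez (Th.inv C.hs) (j - e)) (d : ℤ) :
    E * C.X A d = C.X A d * E + c₂ • C.X A (d + e) + c₁ • C.X A' (d + e) := by
  have h1 : ∀ j : ℕ, A (d + (j + e : ℕ)) * ez (Th.inv C.hs) ((j + e : ℕ) - e) = A (d + e + j) * Th.inv C.hs j := fun j => by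
    rw [Nat.cast_add, add_sub_cancel_right, ez_nat, add_comm (j : ℤ), add_assoc]
  rw [X_eq, X_eq, X_eq, ← sm_shift (f := fun j : ℕ => A (d + j) * ez (Th.inv C.hs) (j - e)) ((lf_inv C).mul' _)
    (fun j hj => by rw [ez_neg _ (by omega), mul_zero]) h1, ← one_smul ℂ (sm _ * E)]
  refine sm_comm ((lf_inv C).mul' _) (((lf_inv C).mul' _).shift h1) ((lf_inv C).mul' _) fun j => ?_
  rw [← mul_assoc, hA, add_mul, mul_assoc, hI, mul_add, one_smul, mul_assoc, mul_smul_comm, smul_mul_assoc,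
    add_right_comm d]

theorem Y_comm {E : End ℂ V} {A A' : ℤ → End ℂ V} (h : ∀ d, Dg H (A d) d) (h' : ∀ d, Dg H (A' d) d) {a c : ℂ} {e : ℤ}
    (hA : ∀ d, E * A d = a • (A d * E) + c • A' (d + e)) (hI : ∀ j, C.h j * E = E * C.h j) (d : ℤ) :
    E * C.Y A d = a • (C.Y A d * E) + c • C.Y A' (d + e) := by
  rw [Y_eq C h, Y_eq C h', sm_comm ((lf_fam h d).mul' _) ((lf_fam h' (d + e)).mul' (Th.inv C.h))
    ((lf_fam h d).mul' (Th.inv C.h)) (a := a) (c₁ := c) (c₂ := 0) fun j => ?_, zero_smul, add_zero]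
  rw [← mul_assoc, inv_commute C.h0 hI, mul_assoc, hA, mul_add, mul_smul_comm, mul_smul_comm, mul_assoc, zero_smul,
    add_zero, sub_add_eq_add_sub]

theorem J_h (k : ℕ) : C.h k * H.J = H.J * C.h k := ((df_of_hom (C.h_hom k)).J (by unfold Od; decide)).symm

theorem J_hs (k : ℕ) : C.hs k * H.J = H.J * C.hs k := ((df_of_hom (hom_hs C k)).J (by unfold Od; decide)).symm

theorem J_R (d : ℤ) : H.J * C.R d = -(C.R d * H.J) := (df_of_hom (C.R_hom d)).J' (by unfold Od; decide)

theorem J_L (d : ℤ) : H.J * C.L d = -(C.L d * H.J) := (df_of_hom (hom_L C d)).J' (by unfold Od; decide)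

theorem X_J (A : ℤ → End ℂ V) (d : ℤ) : C.X (fun d => A d * H.J) d = C.X A d * H.J := by
  rw [X_eq, X_eq, sm_mul ((lf_inv C).mul' _)]
  exact congrArg sm (funext fun j => by rw [mul_assoc, mul_assoc, inv_commute (hs_zero C) (J_hs C)])

theorem dg_J {A : ℤ → End ℂ V} (h : ∀ d, Dg H (A d) d) (d : ℤ) : Dg H (A d * H.J) d := by
  simpa using (h d).mul (dg_of_hom hom_J)

theorem Y_J {A : ℤ → End ℂ V} (h : ∀ d, Dg H (A d) d) (hJ : ∀ d, H.J * A d = -(A d * H.J)) (d : ℤ) :
    C.Y (fun d => A d * H.J) d = -(H.J * C.Y A d) := by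
  rw [Y_comm C h h (a := -1) (c := 0) (e := 0) (fun d => by rw [hJ]; simp) (J_h C), Y_eq C (dg_J h), Y_eq C h,
    sm_mul ((lf_fam h d).mul' _)]
  simp only [mul_assoc, neg_smul, one_smul, zero_smul, add_zero, neg_neg]

/-- `K s = ∑_j h_{s+j} hs_j` -/
noncomputable def K (s : ℤ) : End ℂ V := sm fun j : ℕ => ez C.h (s + j) * C.hs j

open Classical in
theorem g4' {D : ZMod 4} {u : V} (hu : u ∈ H.cmp D) {δ : ℤ} (hδ : δ = if Od D then 0 else 1) (d d' : ℤ) :
    K C (d - d') u = C.L d (C.R (-d') u) + C.R (δ - d') (C.L (d - δ) u) :=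
  eq_on (B := C.L d * C.R (-d') + C.R (δ - d') * C.L (d - δ)) (fun i hi => by
    have h1 : δ = H.dl i := by rw [hδ, HS.dl, hi]
    rw [K, sm_range ((lf_hs C).mul' _) (N := H.rk i + 1) fun j hj => by
      rw [Module.End.mul_apply, (dg_of_hom (hom_hs C j)).zero (b_Fl i) (by omega), map_zero], h1]
    exact (C.g4 d d' i).symm) hu

/-- the relations with `h`, `hs` from the relation with `K` -/
theorem h_comm {D : End ℂ V} {e : ℕ} (hD : Dg H D e) {c : ℂ} (h : ∀ s, K C s * D = D * K C s + c • K C (s + e)) :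
    (∀ n, C.h n * D = D * C.h n) ∧ ∀ n : ℕ, C.hs n * D = D * C.hs n + c • ez C.hs (n - e) := by
  let a : ℤ → End ℂ V := fun i => ez C.h i * D - D * ez C.h i
  let b : ℕ → End ℂ V := fun j => C.hs j * D - D * C.hs j - c • ez C.hs (j - e)
  have h1 : ∀ j : ℕ, ez C.hs ((j + e : ℕ) - e) = C.hs j := fun j => by rw [Nat.cast_add, add_sub_cancel_right, ez_nat]
  have l1 : LF fun j : ℕ => ez C.hs (j - e) := (lf_hs C).shift h1
  have lb : LF b := fun u => by
    obtain ⟨N, hN⟩ := (((lf_hs C).mul D).add ((((lf_hs C).mul' fun _ => D).add (l1.smul c)).smul (-1))) u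
    exact ⟨N, fun j hj => by rw [← hN j hj]; simp only [b, neg_smul, one_smul, sub_eq_add_neg]; abel_nf⟩
  have rel : ∀ s : ℤ, (sm fun j : ℕ => a (s + j) * C.hs j) + (sm fun j : ℕ => ez C.h (s + j) * b j) = 0 := fun s => by
    have h2 : K C (s + e) = sm fun j : ℕ => ez C.h (s + j) * ez C.hs (j - e) :=
      (sm_shift (e := e) ((lf_hs C).mul' _) (fun j hj => by rw [ez_neg C.hs (show (j : ℤ) - e < 0 by omega), mul_zero]) fun j => by
        rw [h1, Nat.cast_add, add_comm (j : ℤ), add_assoc]).symm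
    have h3 := sm_comm ((lf_hs C).mul' fun j : ℕ => ez C.h (s + j)) (E := D) (a := 1) (c₁ := -c) (c₂ := -1)
      (l1.mul' fun j : ℕ => ez C.h (s + j)) (((lf_hs C).mul' fun j : ℕ => a (s + j)).add (lb.mul' fun j : ℕ => ez C.h (s + j)))
      fun j => by
        simp only [a, b, mul_sub, sub_mul, mul_assoc, mul_smul_comm, neg_smul, one_smul]
        abel
    rw [← h2, one_smul, sm_add ((lf_hs C).mul' _) (lb.mul' _)] at h3
    have h4 := h s
    rw [K] at h4
    rw [h4, neg_smul, add_neg_cancel_right, neg_smul, one_smul, left_eq_add, neg_eq_zero] at h3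
    exact h3
  have a0 : ∀ t : ℕ, a (-t) = 0 := fun t => by
    rcases t.eq_zero_or_pos with rfl | ht
    · simp [a, ez, C.h0]
    · simp only [a, ez_neg C.h (show -(t : ℤ) < 0 by omega), zero_mul, mul_zero, sub_self]
  have key : ∀ n : ℕ, ∀ u ∈ Fl H n, (∀ i, a i u = 0) ∧ ∀ j, b j u = 0 := fun n => by
    induction n with
    | zero => exact fun u hu => by rw [Fl_zero le_rfl hu]; exact ⟨fun _ => map_zero _, fun _ => map_zero _⟩
    | succ n ih =>
      intro u hu
      have h2 : ∀ s : ℤ, a s u + ∑ᶠ j : ℕ, ez C.h (s + j) (b j u) = 0 := fun s => by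
        have h3 := LinearMap.congr_fun (rel s) u
        rw [LinearMap.add_apply, sm_range ((lf_hs C).mul' _) (N := 1) fun j hj => (ih _ (Fl_mono (by omega)
          (dg_of_hom (hom_hs C j) _ u hu))).1 _, sm_apply (lb.mul' _), Finset.sum_range_one, hs_zero, mul_one,
          Nat.cast_zero, add_zero] at h3
        exact h3
      obtain ⟨N, hN⟩ := lb u
      have h3 : ∀ m t, N ≤ t + m → b t u = 0 := fun m => by
        induction m with
        | zero => exact hN
        | succ m ihm =>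
          intro t ht
          have h4 := h2 (-t)
          rw [a0, LinearMap.zero_apply, zero_add, finsum_eq_single _ t fun j hj => by
            rcases lt_or_gt_of_ne hj with h5 | h5
            · rw [ez_neg _ (by omega), LinearMap.zero_apply]
            · rw [ihm j (by omega), map_zero], neg_add_cancel, ← Nat.cast_zero, ez_nat, C.h0] at h4
          exact h4
      refine ⟨fun i => ?_, fun j => h3 N j (by omega)⟩
      have h4 := h2 i
      rwa [finsum_eq_zero_of_forall_eq_zero fun j => by rw [h3 N j (by omega), map_zero], add_zero] at h4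
  refine ⟨fun n => sub_eq_zero.1 (LinearMap.ext fun u => ?_), fun n => sub_eq_zero.1 (LinearMap.ext fun u => ?_)⟩
  · obtain ⟨m, hm⟩ := exists_Fl (H := H) u
    rw [← ez_nat C.h n]
    exact (key m u hm).1 n
  · obtain ⟨m, hm⟩ := exists_Fl (H := H) u
    rw [← sub_sub]
    exact (key m u hm).2 n

end Cfsg.Agent.PQ.Rl4
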